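import Cfsg.Agent.Lib.CentreFamily.Lines

/-!
# Counting for families of equal-sized subsets

Fisher's inequality by the variance argument, and the equality forced by constant intersections.
-/

set_option autoImplicit false
set_option linter.unusedSectionVars false

namespace CfsgLib.CentreFamily

theorem double_count {α β : Type*} [Fintype α] [Fintype β] (R : α → β → Prop) :
    ∑ a, {b | R a b}.ncard = ∑ b, {a | R a b}.ncard := by
  classical
  simp only [Set.ncard_eq_toFinset_card', Set.toFinset_ofPred, Finset.card_filter]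
  exact Finset.sum_comm

/-- A set of `s`-subsets with every point in `R` of them and every pair in `l` of them. -/
structure IsBlockFamily {X : Type*} (F : Set (Set X)) (s R l : ℕ) : Prop where
  size : ∀ A ∈ F, A.ncard = s
  point : ∀ x, {A | A ∈ F ∧ x ∈ A}.ncard = R
  pair : ∀ x y, x ≠ y → {A | A ∈ F ∧ x ∈ A ∧ y ∈ A}.ncard = l

variable {X : Type*} [Finite X] {F : Set (Set X)} {s R l : ℕ}

theorem IsBlockFamily.flags (h : IsBlockFamily F s R l) : F.ncard * s = Nat.card X * R := by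
  classical
  cases nonempty_fintype X
  have hpt : ∀ x : X, {A : F | x ∈ (A : Set X)}.ncard = R := fun x => by
    rw [← h.point x, ← Set.ncard_image_of_injective _ Subtype.val_injective]
    congr 1
    ext A
    exact ⟨fun ⟨B, hB, e⟩ => e ▸ ⟨B.2, hB⟩, fun hA => ⟨⟨A, hA.1⟩, hA.2, rfl⟩⟩
  have h1 := double_count (fun (A : F) (x : X) => x ∈ (A : Set X))
  rw [Finset.sum_congr rfl (fun (A : F) _ => (show {x | x ∈ (A : Set X)}.ncard = s from h.size A A.2)),
    Finset.sum_congr rfl (fun (x : X) _ => hpt x)] at h1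
  simpa [← Nat.card_eq_fintype_card, Nat.card_coe_set_eq] using h1

theorem IsBlockFamily.pairs (h : IsBlockFamily F s R l) {x : X} : R * (s - 1) = (Nat.card X - 1) * l := by
  classical
  cases nonempty_fintype X
  have h1 := double_count (fun (A : {A | A ∈ F ∧ x ∈ A}) (y : {y : X // y ≠ x}) => (y : X) ∈ (A : Set X))
  rw [Finset.sum_congr rfl (fun (A : {A | A ∈ F ∧ x ∈ A}) _ => (show _ = s - 1 from by
      rw [← h.size A A.2.1, ← Set.ncard_sdiff_singleton_of_mem A.2.2,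
        ← Set.ncard_image_of_injective _ Subtype.val_injective]
      congr 1
      ext y
      exact ⟨fun ⟨z, hz, e⟩ => e ▸ ⟨hz, z.2⟩, fun hy => ⟨⟨y, hy.2⟩, hy.1, rfl⟩⟩)),
    Finset.sum_congr rfl (fun (y : {y : X // y ≠ x}) _ => (show _ = l from by
      rw [← h.pair x y (Ne.symm y.2), ← Set.ncard_image_of_injective _ Subtype.val_injective]
      congr 1
      ext A
      exact ⟨fun ⟨B, hB, e⟩ => e ▸ ⟨B.2.1, B.2.2, hB⟩, fun hA => ⟨⟨A, hA.1, hA.2.1⟩, hA.2.2, rfl⟩⟩))] at h1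
  simp only [Finset.sum_const, Finset.card_univ, smul_eq_mul, ← Nat.card_eq_fintype_card, Nat.card_coe_set_eq,
    h.point x] at h1
  have hc : Nat.card {y : X // y ≠ x} = Nat.card X - 1 := by
    simp [Nat.card_eq_fintype_card, Fintype.card_subtype_compl]
  rw [hc] at h1
  exact h1

/-- The intersections of the other members with a fixed one, and their ordered pairs. -/
theorem IsBlockFamily.meets (h : IsBlockFamily F s R l) {A₀ : Set X} (hA₀ : A₀ ∈ F) [Fintype ↑(F \ {A₀})] :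
    ∑ A : ↑(F \ {A₀}), (A₀ ∩ (A : Set X)).ncard = s * (R - 1) ∧
    ∑ A : ↑(F \ {A₀}), (A₀ ∩ (A : Set X)).ncard * ((A₀ ∩ (A : Set X)).ncard - 1) = s * (s - 1) * (l - 1) := by
  classical
  cases nonempty_fintype X
  constructor
  · have h1 := double_count (fun (A : ↑(F \ {A₀})) (x : A₀) => (x : X) ∈ (A : Set X))
    rw [Finset.sum_congr rfl (fun (x : A₀) _ => (show _ = R - 1 from by
      rw [← h.point x, ← Set.ncard_sdiff_singleton_of_mem (show A₀ ∈ {A | A ∈ F ∧ (x : X) ∈ A} from ⟨hA₀, x.2⟩),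
        ← Set.ncard_image_of_injective _ Subtype.val_injective]
      congr 1
      ext A
      exact ⟨fun ⟨B, hB, e⟩ => e ▸ ⟨⟨B.2.1, hB⟩, B.2.2⟩,
        fun hA => ⟨⟨A, hA.1.1, hA.2⟩, hA.1.2, rfl⟩⟩))] at h1
    rw [Finset.sum_const, Finset.card_univ, ← Nat.card_eq_fintype_card, Nat.card_coe_set_eq, h.size A₀ hA₀,
      smul_eq_mul] at h1
    rw [← h1]
    refine Finset.sum_congr rfl fun A _ => ?_
    rw [← Set.ncard_image_of_injective {x : A₀ | (x : X) ∈ (A : Set X)} Subtype.val_injective]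
    congr 1
    ext y
    exact ⟨fun hy => ⟨⟨y, hy.1⟩, hy.2, rfl⟩, fun ⟨z, hz, e⟩ => e ▸ ⟨z.2, hz⟩⟩
  · have h1 := double_count (fun (A : ↑(F \ {A₀})) (p : {p : X × X // p.1 ∈ A₀ ∧ p.2 ∈ A₀ ∧ p.1 ≠ p.2}) =>
      p.1.1 ∈ (A : Set X) ∧ p.1.2 ∈ (A : Set X))
    rw [Finset.sum_congr rfl (fun (p : {p : X × X // p.1 ∈ A₀ ∧ p.2 ∈ A₀ ∧ p.1 ≠ p.2}) _ => (show _ = l - 1 from by
      rw [← h.pair p.1.1 p.1.2 p.2.2.2, ← Set.ncard_sdiff_singleton_of_mem
          (show A₀ ∈ {A | A ∈ F ∧ p.1.1 ∈ A ∧ p.1.2 ∈ A} from ⟨hA₀, p.2.1, p.2.2.1⟩),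
        ← Set.ncard_image_of_injective _ Subtype.val_injective]
      congr 1
      ext A
      exact ⟨fun ⟨B, hB, e⟩ => e ▸ ⟨⟨B.2.1, hB⟩, B.2.2⟩,
        fun hA => ⟨⟨A, hA.1.1, hA.2⟩, hA.1.2, rfl⟩⟩))] at h1
    have hoff : ∀ S : Finset X, S.offDiag.card = S.card * (S.card - 1) := fun S => by
      rw [Finset.offDiag_card, Nat.mul_sub_one]
    have hcard : Fintype.card {p : X × X // p.1 ∈ A₀ ∧ p.2 ∈ A₀ ∧ p.1 ≠ p.2} = s * (s - 1) := by
      rw [← h.size A₀ hA₀, Set.ncard_eq_toFinset_card', ← hoff, Fintype.card_subtype]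
      congr 1
      ext p
      simp [and_assoc]
    rw [Finset.sum_const, Finset.card_univ, hcard, smul_eq_mul] at h1
    rw [← h1]
    refine Finset.sum_congr rfl fun A _ => ?_
    rw [Set.ncard_eq_toFinset_card' (A₀ ∩ (A : Set X)), ← hoff, Set.ncard_eq_toFinset_card']
    refine Finset.card_bij'
      (fun p hp => ⟨p, by simp at hp; exact ⟨hp.1.1, hp.2.1.1, hp.2.2⟩⟩) (fun p _ => p.1) ?_ ?_ ?_ ?_
    · intro p hp
      simp at hp ⊢
      exact ⟨hp.1.2, hp.2.1.2⟩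
    · intro p hp
      simp at hp ⊢
      exact ⟨⟨p.2.1, hp.1⟩, ⟨p.2.2.1, hp.2⟩, p.2.2.2⟩
    · intro p hp
      rfl
    · intro p hp
      rfl

/-- Fisher's inequality. -/
theorem IsBlockFamily.fisher (h : IsBlockFamily F s R l) (hne : F.Nonempty) (hs : 2 ≤ s) (hsv : s < Nat.card X) :
    s ≤ R := by
  classical
  cases nonempty_fintype X
  obtain ⟨A₀, hA₀⟩ := hne
  obtain ⟨x, y, hx, hy, hxy⟩ := (Set.one_lt_ncard_iff (Set.toFinite _)).1 (show 1 < A₀.ncard by rw [h.size A₀ hA₀]; omega)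
  have hl : 1 ≤ l := by
    rw [← h.pair x y hxy]
    exact (Set.ncard_pos (Set.toFinite _)).2 ⟨A₀, hA₀, hx, hy⟩
  have hR : 1 ≤ R := by
    rw [← h.point x]
    exact (Set.ncard_pos (Set.toFinite _)).2 ⟨A₀, hA₀, hx⟩
  obtain ⟨h1, h2⟩ := h.meets hA₀
  set g : ↑(F \ {A₀}) → ℤ := fun A => ((A₀ ∩ (A : Set X)).ncard : ℤ) with hg
  have hcs := sq_sum_le_card_mul_sum_sq (s := (Finset.univ : Finset ↑(F \ {A₀}))) (f := g)
  have hb : (Finset.univ : Finset ↑(F \ {A₀})).card + 1 = F.ncard := by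
    rw [Finset.card_univ, ← Nat.card_eq_fintype_card, Nat.card_coe_set_eq,
      Set.ncard_sdiff_singleton_add_one hA₀ (Set.toFinite _)]
  have e1 : ∑ A, g A = (s : ℤ) * ((R : ℤ) - 1) := by
    rw [← Nat.cast_sum, h1, Nat.cast_mul, Nat.cast_sub hR, Nat.cast_one]
  have e2 : ∑ A, g A ^ 2 = (s : ℤ) * ((R : ℤ) - 1) + (s : ℤ) * ((s : ℤ) - 1) * ((l : ℤ) - 1) := by
    have e3 : ∀ A, g A ^ 2 = g A + (((A₀ ∩ (A : Set X)).ncard * ((A₀ ∩ (A : Set X)).ncard - 1) : ℕ) : ℤ) := by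
      intro A
      rcases Nat.eq_zero_or_pos (A₀ ∩ (A : Set X)).ncard with h0 | h0
      · simp [hg, h0]
      · rw [Nat.cast_mul, Nat.cast_sub h0]
        simp only [hg, Nat.cast_one]
        ring
    rw [Finset.sum_congr rfl fun A _ => e3 A, Finset.sum_add_distrib, e1, ← Nat.cast_sum, h2, Nat.cast_mul,
      Nat.cast_mul, Nat.cast_sub hl, Nat.cast_sub (show 1 ≤ s by omega), Nat.cast_one]
  rw [e1, e2] at hcs
  have f1 : ((Finset.univ : Finset ↑(F \ {A₀})).card + 1 : ℤ) * s = Nat.card X * R := by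
    exact_mod_cast (hb ▸ h.flags : ((Finset.univ : Finset ↑(F \ {A₀})).card + 1) * s = Nat.card X * R)
  have f2 : (R : ℤ) * ((s : ℤ) - 1) = ((Nat.card X : ℤ) - 1) * l := by
    have := congrArg (fun n : ℕ => (n : ℤ)) (h.pairs (x := x))
    simp only [Nat.cast_mul] at this
    rwa [Nat.cast_sub (show 1 ≤ s by omega), Nat.cast_sub (show 1 ≤ Nat.card X by omega), Nat.cast_one] at this
  set b : ℤ := (((Finset.univ : Finset ↑(F \ {A₀})).card : ℕ) : ℤ)
  set S : ℤ := (s : ℤ)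
  set Q : ℤ := (R : ℤ)
  set V : ℤ := (Nat.card X : ℤ)
  have hS : 2 ≤ S := Int.ofNat_le.2 hs
  have hV : S < V := Int.ofNat_lt.2 hsv
  have hQ : 1 ≤ Q := Int.ofNat_le.2 hR
  have key : 0 ≤ Q * (Q - S) * (V - S) ^ 2 := by
    have h4 : (S * (Q - 1)) ^ 2 * (V - 1) ≤
        (b * S) * ((Q - 1) * (V - 1) + (S - 1) * (((V - 1) * l) - (V - 1))) :=
      le_of_le_of_eq (mul_le_mul_of_nonneg_right hcs (by linarith)) (by ring)
    rw [show b * S = V * Q - S by linarith, ← f2] at h4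
    linarith [show (V * Q - S) * ((Q - 1) * (V - 1) + (S - 1) * (Q * (S - 1) - (V - 1))) -
      (S * (Q - 1)) ^ 2 * (V - 1) = Q * (Q - S) * (V - S) ^ 2 by ring]
  by_contra hlt
  have hlt' : Q < S := Int.ofNat_lt.2 (Nat.lt_of_not_le hlt)
  have : 0 < Q * (S - Q) * (V - S) ^ 2 := mul_pos (mul_pos (by linarith) (by linarith)) (pow_pos (by linarith) 2)
  nlinarith

/-- Constant intersections force symmetry. -/
theorem IsBlockFamily.symmetric (h : IsBlockFamily F s R l) (hne : F.Nonempty) (hs : 2 ≤ s) {o μ : ℕ} (ho : 2 ≤ o)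
    (hv : Nat.card X = s * o + 1) (hμ : μ * o = s - 1)
    (hmeet : ∀ A ∈ F, ∀ A' ∈ F, A ≠ A' → (A ∩ A').ncard = μ) : F.ncard = Nat.card X := by
  classical
  cases nonempty_fintype X
  obtain ⟨A₀, hA₀⟩ := hne
  obtain ⟨x, y, hx, hy, hxy⟩ := (Set.one_lt_ncard_iff (Set.toFinite _)).1 (show 1 < A₀.ncard by rw [h.size A₀ hA₀]; omega)
  have hl : 1 ≤ l := by
    rw [← h.pair x y hxy]
    exact (Set.ncard_pos (Set.toFinite _)).2 ⟨A₀, hA₀, hx, hy⟩
  have hR : 1 ≤ R := by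
    rw [← h.point x]
    exact (Set.ncard_pos (Set.toFinite _)).2 ⟨A₀, hA₀, hx⟩
  obtain ⟨h1, h2⟩ := h.meets hA₀
  have hm : ∀ A : ↑(F \ {A₀}), (A₀ ∩ (A : Set X)).ncard = μ := fun A => hmeet A₀ hA₀ A A.2.1 (Ne.symm A.2.2)
  simp only [hm, Finset.sum_const, smul_eq_mul] at h1 h2
  set c := (Finset.univ : Finset ↑(F \ {A₀})).card
  have hμ1 : 1 ≤ μ := Nat.pos_of_ne_zero fun e => by rw [e, zero_mul] at hμ; omega
  have hfl := h.flags
  have hp := h.pairs (x := x)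
  rw [hv, Nat.add_sub_cancel] at hp
  rw [← hμ] at hp
  have e4 : R * μ = s * l := Nat.eq_of_mul_eq_mul_right (show 0 < o by omega)
    (((mul_assoc R μ o).trans hp).trans (mul_right_comm s o l))
  have e5 : (s - 1) * (l - 1) = (R - 1) * (μ - 1) := by
    refine Nat.eq_of_mul_eq_mul_left (show 0 < s by omega) ?_
    calc s * ((s - 1) * (l - 1)) = c * μ * (μ - 1) := by rw [← mul_assoc, ← h2, mul_assoc]
      _ = s * ((R - 1) * (μ - 1)) := by rw [h1, mul_assoc]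
  have hRs : R = s := by
    have hsμ : μ < s := by
      have := Nat.mul_le_mul_left μ ho
      omega
    have e5' : ((s : ℤ) - 1) * ((l : ℤ) - 1) = ((R : ℤ) - 1) * ((μ : ℤ) - 1) := by
      have := congrArg (fun n : ℕ => (n : ℤ)) e5
      simpa [Nat.cast_sub hl, Nat.cast_sub hR, Nat.cast_sub hμ1, Nat.cast_sub (show 1 ≤ s by omega)] using this
    have e4' : (R : ℤ) * μ = s * l := by exact_mod_cast e4
    have e6 : ((R : ℤ) - s) * ((s : ℤ) - μ) = 0 := by
      linear_combination (s : ℤ) * e5' + ((s : ℤ) - 1) * e4'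
    rcases mul_eq_zero.1 e6 with e | e
    · exact_mod_cast sub_eq_zero.1 e
    · exact absurd (sub_eq_zero.1 e) (by exact_mod_cast hsμ.ne')
  rw [hRs] at hfl
  exact Nat.eq_of_mul_eq_mul_right (by omega) hfl

end CfsgLib.CentreFamily
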