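import Mathlib

/-!
# Abelian normal subgroups of point stabilisers

`IsCentreFamily G X N` attaches to every point `x` of a two-transitive group an abelian normal
subgroup `N x` of its stabiliser, not semiregular on the other points.  These subgroups meet
trivially, and the fixed sets of `N x ⊓ G_y` are the lines of a linear space in which `N x` fixes
every line through `x`.
-/

set_option autoImplicit false
set_option linter.unusedSectionVars false

namespace CfsgLib.CentreFamily

open MulAction
open scoped Pointwise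

/-- Abelian normal subgroups of the point stabilisers, compatible with conjugation. -/
structure IsCentreFamily (G X : Type*) [Group G] [MulAction G X] (N : X → Subgroup G) : Prop where
  two : IsMultiplyPretransitive G X 2
  fix : ∀ x, ∀ n ∈ N x, n • x = x
  conj : ∀ g : G, ∀ x, ∀ n ∈ N x, g * n * g⁻¹ ∈ N (g • x)
  comm : ∀ x, ∀ a ∈ N x, ∀ b ∈ N x, a * b = b * a
  nsr : ∀ x y : X, x ≠ y → ∃ n ∈ N x, n ≠ 1 ∧ n • y = y

variable {G X : Type*} [Group G] [MulAction G X] {N : X → Subgroup G}

/-- The elements with centre `x` fixing `y`. -/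
abbrev axisPart (N : X → Subgroup G) (x y : X) : Subgroup G := N x ⊓ stabilizer G y

/-- The points fixed by all elements with centre `x` fixing `y`. -/
def line (N : X → Subgroup G) (x y : X) : Set X := {z | ∀ n ∈ N x, n • y = y → n • z = z}

variable [Finite G] [Finite X] [FaithfulSMul G X]

theorem IsCentreFamily.exists_smul (h : IsCentreFamily G X N) {x y u w : X} (hxy : x ≠ y) (huw : u ≠ w) :
    ∃ g : G, g • x = u ∧ g • y = w :=
  (is_two_pretransitive_iff).1 h.two hxy huw

theorem IsCentreFamily.conj_stab (h : IsCentreFamily G X N) {g : G} {x : X} (hg : g • x = x) {n : G}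
    (hn : n ∈ N x) : g * n * g⁻¹ ∈ N x := by
  have := h.conj g x n hn
  rwa [hg] at this

/-- The subgroups of different points meet trivially. -/
theorem IsCentreFamily.ti (h : IsCentreFamily G X N) {x y : X} (hxy : x ≠ y) {d : G} (hdx : d ∈ N x)
    (hdy : d ∈ N y) : d = 1 := by
  classical
  by_contra hd
  let blk : Set (Set X) := {S | ∃ e : G, e ≠ 1 ∧ S = {u | e ∈ N u}}
  let thru : X → X → Set (Set X) := fun u w => {S | S ∈ blk ∧ u ∈ S ∧ w ∈ S}
  have hmap : ∀ u w u' w' : X, u ≠ w → u' ≠ w' → (thru u w).ncard ≤ (thru u' w').ncard := by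
    intro u w u' w' huw huw'
    obtain ⟨g, rfl, rfl⟩ := h.exists_smul huw huw'
    rw [← Set.ncard_image_of_injective (thru u w) (MulAction.injective (α := G) (β := Set X) g)]
    refine Set.ncard_le_ncard ?_ (Set.toFinite _)
    rintro _ ⟨S, ⟨⟨e, he, rfl⟩, hu, hw⟩, rfl⟩
    refine ⟨⟨g * e * g⁻¹, fun e' => he (conj_eq_one_iff.1 e'), ?_⟩, Set.smul_mem_smul_set hu,
      Set.smul_mem_smul_set hw⟩
    ext z
    rw [Set.mem_smul_set_iff_inv_smul_mem]
    constructor
    · intro hz
      have h1 := h.conj g (g⁻¹ • z) e hz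
      rwa [smul_inv_smul] at h1
    · intro hz
      have h1 := h.conj g⁻¹ z _ hz
      simpa [mul_assoc] using h1
  have hinv : ∀ S ∈ blk, ∀ u ∈ S, ∀ n ∈ N u, ∀ v ∈ S, n • v ∈ S := by
    rintro _ ⟨e, -, rfl⟩ u hu n hn v hv
    have h1 := h.conj n v e hv
    rwa [h.comm u n hn e hu, mul_inv_cancel_right] at h1
  obtain ⟨w, hw⟩ : ∃ w : X, d • w ≠ w := by
    by_contra hc
    push Not at hc
    exact hd (eq_of_smul_eq_smul fun z : X => (hc z).trans (one_smul G z).symm)
  have hkey : ∀ u : X, d ∈ N u → thru w u = thru w (d • w) := fun u hu => by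
    have hwu : w ≠ u := fun e => hw (e ▸ h.fix u d hu)
    exact Set.eq_of_subset_of_ncard_le (fun S hS => ⟨hS.1, hS.2.1, hinv S hS.1 u hS.2.2 d hu w hS.2.1⟩)
      (hmap _ _ _ _ (Ne.symm hw) hwu) (Set.toFinite _)
  have hwx : w ≠ x := fun e => hw (e ▸ h.fix x d hdx)
  have hsub : thru w x ⊆ thru x y := fun S hS => by
    have h1 := (hkey x hdx).trans (hkey y hdy).symm
    exact ⟨hS.1, hS.2.2, (h1 ▸ hS : S ∈ thru w y).2.2⟩
  have heq := Set.eq_of_subset_of_ncard_le hsub (hmap _ _ _ _ hxy hwx) (Set.toFinite _)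
  have hS : {u | d ∈ N u} ∈ thru x y := ⟨⟨d, hd, rfl⟩, hdx, hdy⟩
  rw [← heq] at hS
  exact hw (h.fix w d hS.2.1)

theorem IsCentreFamily.eq_of_mem (h : IsCentreFamily G X N) {x y : X} {d : G} (hd : d ≠ 1) (hdx : d ∈ N x)
    (hdy : d ∈ N y) : x = y :=
  by_contra fun e => hd (h.ti e hdx hdy)

theorem IsCentreFamily.card_axisPart_le (h : IsCentreFamily G X N) {x y u w : X} (hxy : x ≠ y) (huw : u ≠ w) :
    Nat.card (axisPart N x y) ≤ Nat.card (axisPart N u w) := by
  obtain ⟨g, rfl, rfl⟩ := h.exists_smul hxy huw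
  refine Nat.card_le_card_of_injective (fun n => ⟨g * n * g⁻¹, h.conj g x n n.2.1, ?_⟩) fun n n' e => ?_
  · refine mem_stabilizer_iff.2 ?_
    rw [mul_smul, mul_smul, inv_smul_smul, mem_stabilizer_iff.1 n.2.2]
  · exact Subtype.ext (mul_left_cancel (mul_right_cancel (congrArg Subtype.val e)))

theorem IsCentreFamily.card_axisPart (h : IsCentreFamily G X N) {x y u w : X} (hxy : x ≠ y) (huw : u ≠ w) :
    Nat.card (axisPart N x y) = Nat.card (axisPart N u w) :=
  le_antisymm (h.card_axisPart_le hxy huw) (h.card_axisPart_le huw hxy)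

theorem IsCentreFamily.commute_parts (h : IsCentreFamily G X N) {x y : X} (hxy : x ≠ y) {a b : G}
    (ha : a ∈ axisPart N x y) (hb : b ∈ axisPart N y x) : a * b * a⁻¹ * b⁻¹ = 1 := by
  refine h.ti hxy ?_ ?_
  · rw [show a * b * a⁻¹ * b⁻¹ = a * (b * a⁻¹ * b⁻¹) by group]
    exact mul_mem ha.1 (h.conj_stab (mem_stabilizer_iff.1 hb.2) (inv_mem ha.1))
  · exact mul_mem (h.conj_stab (mem_stabilizer_iff.1 ha.2) hb.1) (inv_mem hb.1)

/-- The key lemma: a point fixed by `N y ⊓ G_x` has the same part at `x` as `y`. -/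
theorem IsCentreFamily.axisPart_eq (h : IsCentreFamily G X N) {x y z : X} (hxy : x ≠ y) (hzx : z ≠ x)
    (hz : ∀ b ∈ N y, b • x = x → b • z = z) : axisPart N x z = axisPart N x y := by
  classical
  refine Subgroup.eq_of_le_of_card_ge (fun e he => ?_) (h.card_axisPart hxy hzx.symm).le
  by_contra hey
  have hey' : e • y ≠ y := fun hh => hey ⟨he.1, mem_stabilizer_iff.2 hh⟩
  let f : Option (axisPart N y x) → axisPart N x z := fun o => o.elim 1 fun b =>
    ⟨b * e * (b : G)⁻¹, h.conj_stab (mem_stabilizer_iff.1 b.2.2) he.1, by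
      have hb := hz b b.2.1 (mem_stabilizer_iff.1 b.2.2)
      refine mem_stabilizer_iff.2 ?_
      rw [mul_smul, mul_smul, inv_smul_eq_iff.2 hb.symm, mem_stabilizer_iff.1 he.2, hb]⟩
  have he1 : e ≠ 1 := fun h1 => hey' (h1 ▸ one_smul G y)
  have hf : Function.Injective f := by
    rintro (_ | b) (_ | b') hbb
    · rfl
    · exact absurd (conj_eq_one_iff.1 (congrArg Subtype.val hbb).symm) he1
    · exact absurd (conj_eq_one_iff.1 (congrArg Subtype.val hbb)) he1
    · have h1 : (b : G) * e * (b : G)⁻¹ = b' * e * (b' : G)⁻¹ := congrArg Subtype.val hbb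
      set c : G := (b' : G)⁻¹ * b with hc
      have hcN : c ∈ N y := mul_mem (inv_mem b'.2.1) b.2.1
      have hce : e * c * e⁻¹ = c := by
        have h2 : c * e * c⁻¹ = e := by
          calc c * e * c⁻¹ = (b' : G)⁻¹ * ((b : G) * e * (b : G)⁻¹) * b' := by rw [hc]; group
            _ = e := by rw [h1]; group
        calc e * c * e⁻¹ = (c * e * c⁻¹) * c * e⁻¹ := by rw [h2]
          _ = c := by group
      by_cases hc1 : c = 1
      · exact congrArg some (Subtype.ext (inv_mul_eq_one.1 hc1).symm)
      · exact absurd (h.eq_of_mem hc1 (hce ▸ h.conj e y c hcN) hcN) hey'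
  have hle := Nat.card_le_card_of_injective f hf
  rw [Finite.card_option, h.card_axisPart hxy.symm hzx.symm] at hle
  omega

omit [Finite G] [Finite X] [FaithfulSMul G X] in
theorem right_mem_line (x y : X) : y ∈ line N x y := fun _ _ hn => hn

theorem IsCentreFamily.left_mem_line (h : IsCentreFamily G X N) (x y : X) : x ∈ line N x y :=
  fun n hn _ => h.fix x n hn

theorem IsCentreFamily.line_subset_symm (h : IsCentreFamily G X N) {x y : X} (hxy : x ≠ y) :
    line N y x ⊆ line N x y := by
  intro z hz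
  by_cases hzx : z = x
  · exact hzx ▸ h.left_mem_line x y
  intro n hn hny
  have h1 : n ∈ axisPart N x z := h.axisPart_eq hxy hzx hz ▸ ⟨hn, mem_stabilizer_iff.2 hny⟩
  exact mem_stabilizer_iff.1 h1.2

theorem IsCentreFamily.line_comm (h : IsCentreFamily G X N) {x y : X} (hxy : x ≠ y) :
    line N x y = line N y x :=
  (h.line_subset_symm hxy.symm).antisymm (h.line_subset_symm hxy)

theorem IsCentreFamily.line_eq_left (h : IsCentreFamily G X N) {x y z : X} (hxy : x ≠ y) (hzx : z ≠ x)
    (hz : z ∈ line N x y) : line N x z = line N x y := by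
  have he : axisPart N x z = axisPart N x y := h.axisPart_eq hxy hzx fun b hb hbx =>
    (h.line_comm hxy ▸ hz : z ∈ line N y x) b hb hbx
  ext w
  have hiff : ∀ n, n ∈ N x → (n • z = z ↔ n • y = y) := fun n hn => by
    have h1 := SetLike.ext_iff.1 he n
    simpa [Subgroup.mem_inf, hn] using h1
  exact ⟨fun hw n hn hny => hw n hn ((hiff n hn).2 hny), fun hw n hn hnz => hw n hn ((hiff n hn).1 hnz)⟩

/-- Two points of a line determine it. -/
theorem IsCentreFamily.line_eq (h : IsCentreFamily G X N) {x y z w : X} (hxy : x ≠ y) (hzw : z ≠ w)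
    (hz : z ∈ line N x y) (hw : w ∈ line N x y) : line N z w = line N x y := by
  by_cases hzx : z = x
  · subst hzx
    exact h.line_eq_left hxy hzw.symm hw
  have h1 : line N z x = line N x y := (h.line_comm hzx).trans (h.line_eq_left hxy hzx hz)
  rw [← h1]
  exact h.line_eq_left hzx hzw.symm (h1.symm ▸ hw)

theorem IsCentreFamily.smul_mem_line (h : IsCentreFamily G X N) (g : G) {x y z : X} (hz : z ∈ line N x y) :
    g • z ∈ line N (g • x) (g • y) := by
  intro n hn hny
  have h1 := h.conj g⁻¹ (g • x) n hn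
  rw [inv_smul_smul, inv_inv] at h1
  have h2 := hz _ h1 (by rw [mul_smul, mul_smul, hny, inv_smul_smul])
  rwa [mul_smul, mul_smul, inv_smul_eq_iff] at h2

/-- An element fixes every line through its centre. -/
theorem IsCentreFamily.smul_mem_line_self (h : IsCentreFamily G X N) {x y z : X} {n : G} (hn : n ∈ N x)
    (hz : z ∈ line N x y) : n • z ∈ line N x y := by
  intro a ha hay
  rw [← mul_smul, h.comm x a ha n hn, mul_smul, hz a ha hay]

/-- The fixed points of an element with a centre form a subspace. -/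
theorem IsCentreFamily.fix_of_mem_line (h : IsCentreFamily G X N) {x u w z : X} {n : G} (hn : n ∈ N x)
    (huw : u ≠ w) (hu : n • u = u) (hw : n • w = w) (hz : z ∈ line N u w) : n • z = z := by
  by_cases hx : x ∈ line N u w
  · have key : ∀ v, v ≠ x → v ∈ line N u w → n • v = v → n • z = z := fun v hv hv' hnv =>
      (h.line_eq huw hv.symm hx hv' ▸ hz : z ∈ line N x v) n hn hnv
    by_cases hux : u = x
    · exact key w (fun e => huw (hux.trans e.symm)) (right_mem_line u w) hw
    · exact key u hux (h.left_mem_line u w) hu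
  have hzx : x ≠ z := fun e => hx (e ▸ hz)
  by_contra hne
  have h1 : n • z ∈ line N u w := by
    have := h.smul_mem_line n hz
    rwa [hu, hw] at this
  have h2 : n • z ∈ line N x z := h.smul_mem_line_self hn (right_mem_line x z)
  exact hx (h.line_eq huw hne h1 hz ▸ (h.line_eq hzx hne h2 (right_mem_line x z)).symm ▸ h.left_mem_line x z)

end CfsgLib.CentreFamily
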