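import Cfsg.Agent.Lib.CentreFamily.Lines
import Cfsg.Agent.Lib.CentreFamily.Blocks

/-!
# Hyperplanes

A largest fixed set of an element with a centre meets every line, and its translates are the
hyperplanes of a symmetric design.  So the group has a subgroup of index equal to the degree which
is intransitive, fixes no point and is unfaithful on an orbit.
-/

set_option autoImplicit false
set_option linter.unusedSectionVars false

namespace CfsgLib.CentreFamily

open MulAction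
open scoped Pointwise

variable {G X : Type*} [Group G] [MulAction G X] {N : X → Subgroup G}

/-- The orbit of `y` under the elements with centre `x`. -/
def trail (N : X → Subgroup G) (x y : X) : Set X := {w | ∃ n ∈ N x, n • y = w}

/-- The elements with centre `z` fixing `F` pointwise. -/
abbrev fixPart (N : X → Subgroup G) (F : Set X) (z : X) : Subgroup G :=
  N z ⊓ ⨅ u : F, stabilizer G (u : X)

theorem mem_fixPart {F : Set X} {z : X} {c : G} : c ∈ fixPart N F z ↔ c ∈ N z ∧ ∀ u ∈ F, c • u = u := by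
  simp [Subgroup.mem_inf, Subgroup.mem_iInf, mem_stabilizer_iff]

variable [Finite G] [Finite X] [FaithfulSMul G X]

theorem IsCentreFamily.trail_subset (h : IsCentreFamily G X N) {x y w : X} (hxy : x ≠ y)
    (hw : w ∈ trail N x y) : w ∈ line N x y ∧ w ≠ x := by
  obtain ⟨n, hn, rfl⟩ := hw
  exact ⟨h.smul_mem_line_self hn (right_mem_line x y),
    fun e => hxy.symm (smul_left_cancel n (e.trans (h.fix x n hn).symm))⟩

theorem IsCentreFamily.card_centre_le (h : IsCentreFamily G X N) {x y : X} (hxy : x ≠ y) :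
    Nat.card (N x) ≤ Nat.card (N y) := by
  obtain ⟨g, hg, -⟩ := h.exists_smul hxy hxy.symm
  exact Nat.card_le_card_of_injective (fun n : N x => (⟨g * n * g⁻¹, hg ▸ h.conj g x n n.2⟩ : N y))
    fun n n' e => Subtype.ext (mul_left_cancel (mul_right_cancel (congrArg Subtype.val e)))

theorem IsCentreFamily.card_centre (h : IsCentreFamily G X N) (x y : X) : Nat.card (N x) = Nat.card (N y) := by
  by_cases hxy : x = y
  · rw [hxy]
  · exact le_antisymm (h.card_centre_le hxy) (h.card_centre_le (Ne.symm hxy))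

theorem card_trail (x y : X) : (trail N x y).ncard * Nat.card (axisPart N x y) = Nat.card (N x) := by
  have he : trail N x y = orbit (N x) y := Set.ext fun w =>
    ⟨fun ⟨n, hn, e⟩ => ⟨⟨n, hn⟩, e⟩, fun ⟨n, e⟩ => ⟨n, n.2, e⟩⟩
  rw [he, ← index_stabilizer, show Nat.card (axisPart N x y) = Nat.card (stabilizer (N x) y) from
    Nat.card_congr { toFun := fun n => ⟨⟨n, n.2.1⟩, n.2.2⟩, invFun := fun n => ⟨n.1, n.1.2, n.2⟩ }]
  exact Subgroup.index_mul_card _

theorem IsCentreFamily.card_trail_eq (h : IsCentreFamily G X N) {x y u w : X} (hxy : x ≠ y) (huw : u ≠ w) :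
    (trail N x y).ncard = (trail N u w).ncard := by
  refine Nat.eq_of_mul_eq_mul_right (Nat.card_pos (α := axisPart N x y)) ?_
  conv_rhs => rw [h.card_axisPart hxy huw, card_trail, h.card_centre u x]
  exact card_trail x y

theorem IsCentreFamily.two_le_trail (h : IsCentreFamily G X N) {x y : X} (hxy : x ≠ y) :
    2 ≤ (trail N x y).ncard := by
  by_contra hc
  have hy : y ∈ trail N x y := ⟨1, one_mem _, one_smul G y⟩
  have hpos := (Set.ncard_pos (Set.toFinite (trail N x y))).2 ⟨y, hy⟩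
  obtain ⟨n, hn, hn1, -⟩ := h.nsr x y hxy
  refine hn1 (eq_of_smul_eq_smul fun w : X => ?_)
  rw [one_smul]
  by_cases hwx : w = x
  · exact hwx ▸ h.fix x n hn
  have h1 : (trail N x w).ncard ≤ 1 := by
    rw [h.card_trail_eq (Ne.symm hwx) hxy]
    omega
  exact (Set.ncard_le_one_iff (Set.toFinite _)).1 h1 ⟨n, hn, rfl⟩ ⟨1, one_mem _, one_smul G w⟩

/-- For an element with centre `x` fixing `y` there are many elements with centre `y` fixing all its
fixed points. -/
theorem IsCentreFamily.trail_le_fixPart (h : IsCentreFamily G X N) {x y : X} {n : G} (hxy : x ≠ y)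
    (hn : n ∈ N x) (hn1 : n ≠ 1) (hny : n • y = y) :
    (trail N y x).ncard ≤ Nat.card (fixPart N (fixedBy X n) y) := by
  classical
  choose m hm using fun w : trail N y x => w.2
  have hny' : n⁻¹ • y = y := inv_smul_eq_iff.2 hny.symm
  let f : trail N y x → fixPart N (fixedBy X n) y := fun w => ⟨n * m w * n⁻¹ * (m w)⁻¹, mem_fixPart.2
    ⟨mul_mem (h.conj_stab hny (hm w).1) (inv_mem (hm w).1), fun z (hz : n • z = z) => by
      have hz' : n⁻¹ • (m w)⁻¹ • z = (m w)⁻¹ • z := by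
        refine inv_smul_eq_iff.2 (Eq.symm ?_)
        by_cases hzy : z = y
        · rw [hzy, h.fix y _ (inv_mem (hm w).1), hny]
        · exact h.fix_of_mem_line hn (Ne.symm hzy) hny hz
            (h.smul_mem_line_self (inv_mem (hm w).1) (right_mem_line y z))
      rw [mul_smul, mul_smul, mul_smul, hz', smul_inv_smul, hz]⟩⟩
  have hf : Function.Injective f := by
    intro w w' e
    have e' : n * m w * n⁻¹ * (m w)⁻¹ = n * m w' * n⁻¹ * (m w')⁻¹ := congrArg Subtype.val e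
    set c : G := (m w')⁻¹ * m w with hc
    have hcn : c * n * c⁻¹ = n := by
      have h1 : n * c * n⁻¹ = c := by
        calc n * c * n⁻¹ = (n * m w' * n⁻¹)⁻¹ * (n * m w * n⁻¹ * (m w)⁻¹) * m w := by rw [hc]; group
          _ = c := by rw [e', hc]; group
      calc c * n * c⁻¹ = (n * c * n⁻¹) * n * c⁻¹ := by rw [h1]
        _ = n := by group
    have h2 : c • x = x := h.eq_of_mem hn1 (hcn ▸ h.conj c x n hn) hn
    refine Subtype.ext ?_
    rw [← (hm w).2, ← (hm w').2]
    rwa [hc, mul_smul, inv_smul_eq_iff] at h2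
  have hle := Nat.card_le_card_of_injective f hf
  rwa [Nat.card_coe_set_eq] at hle

/-- The sum of the numbers of fixed points. -/
theorem IsCentreFamily.sum_fixed (h : IsCentreFamily G X N) {x y : X} (hxy : x ≠ y) [Fintype {n : N x // n ≠ 1}] :
    ∑ n : {n : N x // n ≠ 1}, ((fixedBy X ((n : N x) : G)).ncard - 1) =
      (Nat.card X - 1) * (Nat.card (axisPart N x y) - 1) := by
  classical
  cases nonempty_fintype X
  have h1 := double_count (fun (n : {n : N x // n ≠ 1}) (w : {w : X // w ≠ x}) => ((n : N x) : G) • (w : X) = w)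
  rw [Finset.sum_congr rfl (fun (n : {n : N x // n ≠ 1}) _ => (show _ = (fixedBy X ((n : N x) : G)).ncard - 1 from by
      rw [← Set.ncard_sdiff_singleton_of_mem (show x ∈ fixedBy X ((n : N x) : G) from h.fix x _ n.1.2),
        ← Set.ncard_image_of_injective _ Subtype.val_injective]
      congr 1
      ext w
      exact ⟨fun ⟨v, hv, e⟩ => e ▸ ⟨hv, v.2⟩, fun hw => ⟨⟨w, hw.2⟩, hw.1, rfl⟩⟩)),
    Finset.sum_congr rfl (fun (w : {w : X // w ≠ x}) _ => (show _ = Nat.card (axisPart N x y) - 1 from by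
      rw [h.card_axisPart hxy (Ne.symm w.2), ← Nat.card_coe_set_eq]
      have hc : Nat.card {n : axisPart N x (w : X) // n ≠ 1} = Nat.card (axisPart N x (w : X)) - 1 := by
        cases nonempty_fintype G
        rw [Nat.card_eq_fintype_card, Nat.card_eq_fintype_card, Fintype.card_subtype_compl,
          Fintype.card_subtype_eq]
      rw [← hc]
      exact Nat.card_congr
        { toFun := fun n => ⟨⟨((n.1 : N x) : G), n.1.1.2, n.2⟩,
            fun e => n.1.2 (Subtype.ext (congrArg (fun z : axisPart N x (w : X) => (z : G)) e))⟩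
          invFun := fun n => ⟨⟨⟨(n.1 : G), n.1.2.1⟩,
            fun e => n.2 (Subtype.ext (congrArg (fun z : N x => (z : G)) e))⟩, n.1.2.2⟩ }))] at h1
  rw [h1, Finset.sum_const, Finset.card_univ, smul_eq_mul, Fintype.card_subtype_compl,
    Fintype.card_subtype_eq, Nat.card_eq_fintype_card (α := X)]

theorem counting_step {V a o s R D : ℕ} (ho : 2 ≤ o) (ha : 1 ≤ a) (hs : 2 ≤ s) (hRs : s ≤ R)
    (hD : D + 1 = a * o) (hDR : (o - 1) * R ≤ D) (havg : V * (a - 1) ≤ D * (s - 1)) (hsV : s * o ≤ V) :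
    V = s * o := by
  refine le_antisymm ?_ hsV
  obtain ⟨o, rfl⟩ : ∃ o', o = o' + 2 := ⟨o - 2, by omega⟩
  obtain ⟨a, rfl⟩ : ∃ a', a = a' + 1 := ⟨a - 1, by omega⟩
  obtain ⟨s, rfl⟩ : ∃ s', s = s' + 2 := ⟨s - 2, by omega⟩
  simp only [Nat.add_sub_cancel, show s + 2 - 1 = s + 1 by omega, show o + 2 - 1 = o + 1 by omega] at hDR havg
  have h1 : (o + 1) * (s + 2) ≤ D := le_trans (Nat.mul_le_mul_left _ hRs) hDR
  obtain ⟨E, rfl⟩ := Nat.exists_eq_add_of_le hsV
  have h2 : ((s + 2) * (o + 2) + E) * a * (o + 2) ≤ D * (s + 1) * (o + 2) := Nat.mul_le_mul_right _ havg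
  have h3 : D * (E + (o + 2)) ≤ ((s + 2) * (o + 2) + E) * (o + 1) := by nlinarith
  have h4 : (o + 1) * ((s + 2) * (E + (o + 2))) ≤ (o + 1) * ((s + 2) * (o + 2) + E) := by
    rw [← mul_assoc, mul_comm (o + 1) ((s + 2) * (o + 2) + E)]
    exact le_trans (Nat.mul_le_mul_right _ h1) h3
  have h5 := Nat.le_of_mul_le_mul_left h4 (Nat.succ_pos o)
  nlinarith

/-- An intransitive fixed-point-free subgroup of index equal to the degree, unfaithful on an orbit. -/
theorem IsCentreFamily.exists_hyperplane_subgroup (h : IsCentreFamily G X N) [Nontrivial X] :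
    ∃ (H : Subgroup G) (a : X), H.index = Nat.card X ∧ ¬IsPretransitive H X ∧
      (∀ b : X, ∃ g : H, g • b ≠ b) ∧ ∃ g : H, g ≠ 1 ∧ ∀ b ∈ orbit H a, g • b = b := by
  classical
  cases nonempty_fintype X
  cases nonempty_fintype G
  obtain ⟨x₀, y₀, hxy₀⟩ := exists_pair_ne X
  set o := (trail N x₀ y₀).ncard with ho
  have hto : ∀ {x y : X}, x ≠ y → (trail N x y).ncard = o := fun hxy => h.card_trail_eq hxy hxy₀
  have ho2 : 2 ≤ o := h.two_le_trail hxy₀
  -- a largest fixed set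
  obtain ⟨n₀, hn₀, hn₀1, hn₀y⟩ := h.nsr x₀ y₀ hxy₀
  obtain ⟨⟨x₁, n₁⟩, ⟨hn₁, hn₁1⟩, hmax⟩ := Set.exists_max_image {p : X × G | p.2 ∈ N p.1 ∧ p.2 ≠ 1}
    (fun p => (fixedBy X p.2).ncard) (Set.toFinite _) ⟨(x₀, n₀), hn₀, hn₀1⟩
  set F₀ := fixedBy X n₁ with hF₀
  set s := F₀.ncard with hs
  have hfix_ne : ∀ {g : G}, g ≠ 1 → ∃ z, g • z ≠ z := fun {g} hg => by
    by_contra hc
    push Not at hc
    exact hg (eq_of_smul_eq_smul fun z : X => (hc z).trans (one_smul G z).symm)
  have hs2 : 2 ≤ s := by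
    refine le_trans ?_ (hmax (x₀, n₀) ⟨hn₀, hn₀1⟩)
    rw [← Set.ncard_pair hxy₀]
    refine Set.ncard_le_ncard ?_ (Set.toFinite _)
    rintro z (hz | hz) <;> rw [hz]
    exacts [h.fix x₀ n₀ hn₀, hn₀y]
  have hsv : s < Nat.card X := by
    obtain ⟨z, hz⟩ := hfix_ne hn₁1
    rw [← Set.ncard_univ]
    exact Set.ncard_lt_ncard ((Set.ssubset_iff_of_subset (Set.subset_univ _)).2 ⟨z, trivial, hz⟩)
  have hmemF : ∀ {g : G} {u : X}, g • F₀ = F₀ → u ∈ F₀ → g • u ∈ F₀ := fun {g u} e hu =>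
    e ▸ Set.smul_mem_smul_set (a := g) hu
  set Fam : Set (Set X) := orbit G F₀
  -- every member is the fixed set of an element with a centre
  have hFam : ∀ F ∈ Fam, F.ncard = s ∧ ∃ x n, n ∈ N x ∧ n ≠ 1 ∧ F = fixedBy X n := by
    rintro _ ⟨g, rfl⟩
    refine ⟨Set.ncard_smul_set g F₀, g • x₁, g * n₁ * g⁻¹, h.conj g x₁ n₁ hn₁,
      fun e => hn₁1 (conj_eq_one_iff.1 e), ?_⟩
    ext z
    show z ∈ g • F₀ ↔ (g * n₁ * g⁻¹) • z = z
    rw [Set.mem_smul_set_iff_inv_smul_mem, mul_smul, mul_smul, ← eq_inv_smul_iff (g := g)]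
    rfl
  have hsub : ∀ F ∈ Fam, ∀ {u w z : X}, u ∈ F → w ∈ F → u ≠ w → z ∈ line N u w → z ∈ F := by
    intro F hF u w z hu hw huw hz
    obtain ⟨-, x, n, hn, -, rfl⟩ := hFam F hF
    exact h.fix_of_mem_line hn huw hu hw hz
  have hexact : ∀ F ∈ Fam, ∀ z c, c ∈ fixPart N F z → c ≠ 1 → fixedBy X c = F := by
    intro F hF z c hc hc1
    obtain ⟨hcz, hcF⟩ := mem_fixPart.1 hc
    exact (Set.eq_of_subset_of_ncard_le (fun u hu => hcF u hu)
      ((hmax (z, c) ⟨hcz, hc1⟩).trans (hFam F hF).1.ge) (Set.toFinite _)).symm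
  have hmany : ∀ F ∈ Fam, ∀ z ∈ F, o ≤ Nat.card (fixPart N F z) := by
    intro F hF z hz
    obtain ⟨hFs, x, n, hn, hn1, hFn⟩ := hFam F hF
    have hne : ∀ w ∈ F, w ≠ x → o ≤ Nat.card (fixPart N F w) := fun w hw hwx => by
      rw [← hto hwx, hFn]
      exact h.trail_le_fixPart (Ne.symm hwx) hn hn1 (hFn ▸ hw : w ∈ fixedBy X n)
    by_cases hzx : z = x
    · obtain ⟨w, hw, hwx⟩ := Set.exists_ne_of_one_lt_ncard (show 1 < F.ncard by omega) x
      obtain ⟨⟨c, hc⟩, hc1⟩ : ∃ c : fixPart N F w, c ≠ 1 := by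
        haveI : Nontrivial (fixPart N F w) := Finite.one_lt_card_iff_nontrivial.1 (by have := hne w hw hwx; omega)
        exact exists_ne 1
      have hc1' : c ≠ 1 := fun e => hc1 (Subtype.ext e)
      rw [← hto (show z ≠ w from hzx ▸ Ne.symm hwx), ← hexact F hF w c hc hc1']
      exact h.trail_le_fixPart (hzx ▸ hwx) (mem_fixPart.1 hc).1 hc1' ((mem_fixPart.1 hc).2 z hz)
    · exact hne z hz hzx
  -- a block family
  have hcount : ∀ (P Q : Set X → Prop) (g : G), (∀ F, P F → Q (g • F)) →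
      {F | F ∈ Fam ∧ P F}.ncard ≤ {F | F ∈ Fam ∧ Q F}.ncard := by
    intro P Q g hg
    rw [← Set.ncard_image_of_injective {F | F ∈ Fam ∧ P F} (MulAction.injective (α := G) (β := Set X) g)]
    refine Set.ncard_le_ncard ?_ (Set.toFinite _)
    rintro _ ⟨F, hF, rfl⟩
    exact ⟨mem_orbit_of_mem_orbit g hF.1, hg F hF.2⟩
  have hblk : IsBlockFamily Fam s {F | F ∈ Fam ∧ x₀ ∈ F}.ncard {F | F ∈ Fam ∧ x₀ ∈ F ∧ y₀ ∈ F}.ncard := by
    refine ⟨fun F hF => (hFam F hF).1, fun x => ?_, fun x y hxy => ?_⟩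
    · obtain ⟨g, hg⟩ : ∃ g : G, g • x₀ = x := by
        by_cases hx : x₀ = x
        · exact ⟨1, hx ▸ one_smul G x₀⟩
        · obtain ⟨g, hg, -⟩ := h.exists_smul hx (Ne.symm hx)
          exact ⟨g, hg⟩
      refine le_antisymm (hcount _ _ g⁻¹ fun F hF => ?_) (hcount _ _ g fun F hF => ?_)
      · exact inv_smul_eq_iff.2 hg.symm ▸ Set.smul_mem_smul_set hF
      · exact hg ▸ Set.smul_mem_smul_set hF
    · obtain ⟨g, hgx, hgy⟩ := h.exists_smul hxy₀ hxy
      refine le_antisymm (hcount _ _ g⁻¹ fun F hF => ?_) (hcount _ _ g fun F hF => ?_)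
      · exact ⟨inv_smul_eq_iff.2 hgx.symm ▸ Set.smul_mem_smul_set hF.1,
          inv_smul_eq_iff.2 hgy.symm ▸ Set.smul_mem_smul_set hF.2⟩
      · exact ⟨hgx ▸ Set.smul_mem_smul_set hF.1, hgy ▸ Set.smul_mem_smul_set hF.2⟩
  set R := {F | F ∈ Fam ∧ x₀ ∈ F}.ncard
  have hne : Fam.Nonempty := ⟨F₀, mem_orbit_self F₀⟩
  have hRs : s ≤ R := hblk.fisher hne hs2 hsv
  set a := Nat.card (axisPart N x₀ y₀)
  have hM : a * o = Nat.card (N x₀) := by rw [mul_comm]; exact card_trail x₀ y₀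
  -- the members through `x₀` use different elements
  have hDR : (o - 1) * R ≤ Nat.card (N x₀) - 1 := by
    let S : Type _ := Σ F : {F : Set X // F ∈ Fam ∧ x₀ ∈ F}, {c : fixPart N F.1 x₀ // c ≠ 1}
    let f : S → {n : N x₀ // n ≠ 1} := fun p => ⟨⟨(p.2.1 : G), (mem_fixPart.1 p.2.1.2).1⟩,
      fun e => p.2.2 (Subtype.ext (congrArg (fun z : N x₀ => (z : G)) e))⟩
    have hf : Function.Injective f := by
      rintro ⟨⟨F, hF⟩, ⟨⟨c, hc⟩, hc1⟩⟩ ⟨⟨F', hF'⟩, ⟨⟨c', hc'⟩, hc1'⟩⟩ e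
      obtain rfl : c = c' := congrArg (fun z : {n : N x₀ // n ≠ 1} => ((z : N x₀) : G)) e
      obtain rfl : F = F' := (hexact F hF.1 x₀ c hc fun e => hc1 (Subtype.ext e)).symm.trans
        (hexact F' hF'.1 x₀ c hc' fun e => hc1 (Subtype.ext e))
      rfl
    have hle := Nat.card_le_card_of_injective f hf
    rw [Nat.card_sigma] at hle
    have hn1 : Nat.card {n : N x₀ // n ≠ 1} = Nat.card (N x₀) - 1 := by
      rw [Nat.card_eq_fintype_card, Nat.card_eq_fintype_card, Fintype.card_subtype_compl, Fintype.card_subtype_eq]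
    rw [hn1] at hle
    refine le_trans (le_of_eq ?_) ((Finset.card_nsmul_le_sum Finset.univ _ (o - 1) fun F _ => ?_).trans hle)
    · rw [Finset.card_univ, smul_eq_mul, ← Nat.card_eq_fintype_card, mul_comm]
      rfl
    · rw [Nat.card_eq_fintype_card, Fintype.card_subtype_compl, Fintype.card_subtype_eq, ← Nat.card_eq_fintype_card]
      exact Nat.sub_le_sub_right (hmany F.1 F.2.1 x₀ F.2.2) 1
  have havg : (Nat.card X - 1) * (a - 1) ≤ (Nat.card (N x₀) - 1) * (s - 1) := by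
    rw [← h.sum_fixed hxy₀]
    refine (Finset.sum_le_card_nsmul _ _ (s - 1) fun n _ => ?_).trans (le_of_eq ?_)
    · exact Nat.sub_le_sub_right (hmax (x₀, _) ⟨n.1.2, fun e => n.2 (Subtype.ext e)⟩) 1
    · rw [Finset.card_univ, Fintype.card_subtype_compl, Fintype.card_subtype_eq, smul_eq_mul,
        Nat.card_eq_fintype_card]
  -- the trails from a point outside a member into it
  have htr : ∀ F ∈ Fam, ∀ z, z ∉ F → ∀ T ⊆ F, (⋃ u ∈ T, trail N z u).ncard = T.ncard * o := by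
    intro F hF z hz T hT
    have hdisj : T.PairwiseDisjoint fun u => trail N z u := by
      intro u hu u' hu' huu'
      rw [Function.onFun, Set.disjoint_left]
      intro w hw hw'
      have hzu : z ≠ u := fun e => hz (e ▸ hT hu)
      have hzu' : z ≠ u' := fun e => hz (e ▸ hT hu')
      obtain ⟨h1, h1'⟩ := h.trail_subset hzu hw
      obtain ⟨h2, -⟩ := h.trail_subset hzu' hw'
      have e1 := h.line_eq hzu h1'.symm (h.left_mem_line z u) h1
      have e2 := h.line_eq hzu' h1'.symm (h.left_mem_line z u') h2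
      have hu'l : u' ∈ line N z u := by
        rw [← e1, e2]
        exact right_mem_line z u'
      exact hz (hsub F hF (hT hu) (hT hu') huu'
        ((h.line_eq hzu huu' (right_mem_line z u) hu'l).symm ▸ h.left_mem_line z u))
    rw [(Set.toFinite T).ncard_biUnion (fun u _ => Set.toFinite _) hdisj,
      finsum_mem_congr rfl (fun u hu => hto (x := z) (y := u) (fun e => hz (e ▸ hT hu))),
      finsum_mem_eq_finite_toFinset_sum _ (Set.toFinite T), Finset.sum_const, smul_eq_mul,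
      ← Set.ncard_eq_toFinset_card]
  have htr' : ∀ F ∈ Fam, ∀ z, z ∉ F → ∀ T ⊆ F, (⋃ u ∈ T, trail N z u) ⊆ {w | w ≠ z} := by
    intro F hF z hz T hT w hw
    simp only [Set.mem_iUnion] at hw
    obtain ⟨u, hu, hw⟩ := hw
    exact (h.trail_subset (x := z) (y := u) (fun e => hz (e ▸ hT hu)) hw).2
  have hcompl : ∀ z : X, {w | w ≠ z}.ncard = Nat.card X - 1 := fun z => by
    rw [show {w | w ≠ z} = ({z} : Set X)ᶜ from rfl, Set.ncard_compl, Set.ncard_singleton]
  obtain ⟨z₀, hz₀⟩ := hfix_ne hn₁1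
  have hsV : s * o ≤ Nat.card X - 1 := by
    have h1 := Set.ncard_le_ncard (htr' F₀ (mem_orbit_self F₀) z₀ hz₀ F₀ subset_rfl) (Set.toFinite _)
    rwa [htr F₀ (mem_orbit_self F₀) z₀ hz₀ F₀ subset_rfl, hcompl] at h1
  have hV : Nat.card X - 1 = s * o :=
    counting_step (a := a) (D := Nat.card (N x₀) - 1) ho2 (Nat.card_pos) hs2 hRs
      (by rw [hM]; have := Nat.card_pos (α := N x₀); omega) hDR havg hsV
  have hcover : ∀ F ∈ Fam, ∀ z, z ∉ F → ∀ w, w ≠ z → ∃ u ∈ F, w ∈ trail N z u := by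
    intro F hF z hz w hw
    have e := Set.eq_of_subset_of_ncard_le (htr' F hF z hz F subset_rfl)
      (by rw [htr F hF z hz F subset_rfl, hcompl, hV, (hFam F hF).1]) (Set.toFinite _)
    have h1 : w ∈ ⋃ u ∈ F, trail N z u := e.symm ▸ hw
    simpa using h1
  have hμ : ∀ F ∈ Fam, ∀ F' ∈ Fam, F ≠ F' → (F ∩ F').ncard * o = s - 1 := by
    intro F hF F' hF' hne'
    obtain ⟨z, hzF, hzF'⟩ : ∃ z ∈ F, z ∉ F' := by
      by_contra hc
      push Not at hc
      exact hne' (Set.eq_of_subset_of_ncard_le hc (by rw [(hFam F hF).1, (hFam F' hF').1]) (Set.toFinite _))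
    rw [← htr F' hF' z hzF' (F ∩ F') Set.inter_subset_right, ← (hFam F hF).1,
      ← Set.ncard_sdiff_singleton_of_mem hzF]
    congr 1
    ext w
    simp only [Set.mem_iUnion, Set.mem_sdiff, Set.mem_singleton_iff]
    constructor
    · rintro ⟨u, hu, hw⟩
      have hzu : z ≠ u := fun e => hzF' (e ▸ hu.2)
      obtain ⟨h1, h2⟩ := h.trail_subset hzu hw
      exact ⟨hsub F hF hzF hu.1 hzu h1, h2⟩
    · rintro ⟨hwF, hwz⟩
      obtain ⟨u, hu, hw⟩ := hcover F' hF' z hzF' w hwz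
      have hzu : z ≠ u := fun e => hzF' (e ▸ hu)
      obtain ⟨h1, h2⟩ := h.trail_subset hzu hw
      refine ⟨u, ⟨hsub F hF hzF hwF (Ne.symm hwz) ?_, hu⟩, hw⟩
      rw [h.line_eq hzu h2.symm (h.left_mem_line z u) h1]
      exact right_mem_line z u
  have hFcard : Fam.ncard = Nat.card X := by
    obtain ⟨g, hg⟩ : ∃ g : G, g • F₀ ≠ F₀ := by
      obtain ⟨u, hu, u', hu', huu'⟩ := (Set.one_lt_ncard (Set.toFinite _)).1 (show 1 < F₀.ncard by omega)
      obtain ⟨g, hgu, hgu'⟩ := h.exists_smul huu' (show u ≠ z₀ from fun e => hz₀ (e ▸ hu))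
      exact ⟨g, fun e => hz₀ (show z₀ ∈ F₀ by rw [← hgu']; exact hmemF e hu')⟩
    have h0 := hμ F₀ (mem_orbit_self F₀) (g • F₀) (mem_orbit F₀ g) hg.symm
    exact hblk.symmetric hne hs2 ho2 (by omega) h0 fun A hA A' hA' hAA' =>
      Nat.eq_of_mul_eq_mul_right (show 0 < o by omega) ((hμ A hA A' hA' hAA').trans h0.symm)
  refine ⟨stabilizer G F₀, x₁, by rw [index_stabilizer]; exact hFcard, ?_, ?_, ?_⟩
  · intro htr₂
    obtain ⟨g, hg⟩ := exists_smul_eq (stabilizer G F₀) x₁ z₀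
    exact hz₀ (show z₀ ∈ F₀ by rw [← hg]; exact hmemF (mem_stabilizer_iff.1 g.2) (h.fix x₁ n₁ hn₁))
  · intro b
    by_contra hc
    push Not at hc
    have hle : stabilizer G F₀ ≤ stabilizer G b := fun g hg => mem_stabilizer_iff.2 (hc ⟨g, hg⟩)
    haveI : IsPretransitive G X := ⟨fun u w => by
      by_cases huw : u = w
      · exact ⟨1, huw ▸ one_smul G u⟩
      · obtain ⟨g, hg, -⟩ := h.exists_smul huw (Ne.symm huw)
        exact ⟨g, hg⟩⟩
    have heq : stabilizer G F₀ = stabilizer G b := Subgroup.eq_of_le_of_card_ge hle (by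
      refine le_of_eq (Nat.eq_of_mul_eq_mul_right (show 0 < Nat.card X by omega) ?_)
      conv_lhs => rw [← index_stabilizer_of_transitive G b, Subgroup.card_mul_index]
      rw [← hFcard]
      show Nat.card G = Nat.card (stabilizer G F₀) * (orbit G F₀).ncard
      rw [← index_stabilizer, Subgroup.card_mul_index])
    obtain ⟨u, hu, hub⟩ := Set.exists_ne_of_one_lt_ncard (show 1 < F₀.ncard by omega) b
    have hall : {w | w ≠ b} ⊆ F₀ := fun w hw => by
      obtain ⟨g, hgb, hgu⟩ := h.exists_smul (Ne.symm hub) (Ne.symm hw)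
      have hgF : g ∈ stabilizer G F₀ := heq ▸ mem_stabilizer_iff.2 hgb
      rw [← hgu]
      exact hmemF (mem_stabilizer_iff.1 hgF) hu
    have h1 := Set.ncard_le_ncard hall (Set.toFinite _)
    rw [hcompl, hV] at h1
    have h2 := Nat.mul_le_mul_left s ho2
    omega
  · have hn₁H : n₁ ∈ stabilizer G F₀ := mem_stabilizer_iff.2 (Set.ext fun z => by
      rw [Set.mem_smul_set_iff_inv_smul_mem]
      show n₁ • n₁⁻¹ • z = n₁⁻¹ • z ↔ n₁ • z = z
      rw [smul_inv_smul, eq_inv_smul_iff])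
    refine ⟨⟨n₁, hn₁H⟩, fun e => hn₁1 (congrArg Subtype.val e), ?_⟩
    rintro _ ⟨g, rfl⟩
    exact (show (g : G) • x₁ ∈ F₀ from hmemF (mem_stabilizer_iff.1 g.2) (h.fix x₁ n₁ hn₁))

end CfsgLib.CentreFamily
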