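import Cfsg.Agent.Lib.CentreFamily.Main
import Cfsg.Agent.Lib.DesignAxial.Ito

/-!
# O'Nan's theorem on abelian normal subgroups of a point stabiliser
-/

set_option autoImplicit false
set_option linter.unusedSectionVars false

namespace CfsgLib.CentreFamily

open MulAction

variable {G X : Type*} [Group G] [MulAction G X]

/-- An abelian normal subgroup of a point stabiliser, not semiregular, spreads to a centre family. -/
theorem exists_family (h2 : IsMultiplyPretransitive G X 2) (x : X) (N : Subgroup G)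
    (hNle : N ≤ stabilizer G x) (hNn : ∀ g ∈ stabilizer G x, ∀ n ∈ N, g * n * g⁻¹ ∈ N)
    (hNab : ∀ a ∈ N, ∀ b ∈ N, a * b = b * a) (hnsr : ∃ n ∈ N, n ≠ 1 ∧ ∃ y : X, y ≠ x ∧ n • y = y) :
    ∃ N' : X → Subgroup G, IsCentreFamily G X N' := by
  classical
  obtain ⟨n₀, hn₀, hn₀1, y₀, hy₀, hfix⟩ := hnsr
  have h2' : ∀ {a b c d : X}, a ≠ b → c ≠ d → ∃ g : G, g • a = c ∧ g • b = d := fun h1 h3 =>
    is_two_pretransitive_iff.1 h2 h1 h3
  have htr : ∀ z : X, ∃ g : G, g • x = z := fun z => by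
    by_cases hz : x = z
    · exact ⟨1, hz ▸ one_smul G x⟩
    · obtain ⟨g, hg, -⟩ := h2' (a := x) (b := y₀) (c := z) (d := x) (Ne.symm hy₀) (Ne.symm hz)
      exact ⟨g, hg⟩
  choose t ht using htr
  have hmem : ∀ z n, n ∈ N.map (MulAut.conj (t z)).toMonoidHom ↔ (t z)⁻¹ * n * t z ∈ N := fun z n => by
    constructor
    · rintro ⟨a, ha, rfl⟩
      simpa [mul_assoc] using ha
    · exact fun hn => ⟨_, hn, by simp [mul_assoc]⟩
  have hconj : ∀ g z n, (t z)⁻¹ * n * t z ∈ N → (t (g • z))⁻¹ * (g * n * g⁻¹) * t (g • z) ∈ N := by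
    intro g z n hn
    have hs : (t (g • z))⁻¹ * g * t z ∈ stabilizer G x := mem_stabilizer_iff.2 (by
      rw [mul_smul, mul_smul, ht, inv_smul_eq_iff, ht])
    have := hNn _ hs _ hn
    simpa [mul_assoc] using this
  refine ⟨fun z => N.map (MulAut.conj (t z)).toMonoidHom, ⟨h2, ?_, ?_, ?_, ?_⟩⟩
  · intro z n hn
    have h1 := mem_stabilizer_iff.1 (hNle ((hmem z n).1 hn))
    rwa [mul_smul, mul_smul, ht, inv_smul_eq_iff, ht] at h1
  · exact fun g z n hn => (hmem _ _).2 (hconj g z n ((hmem z n).1 hn))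
  · rintro z _ ⟨a, ha, rfl⟩ _ ⟨b, hb, rfl⟩
    rw [← map_mul, ← map_mul, hNab a ha b hb]
  · intro z w hzw
    obtain ⟨g, hgx, hgy⟩ := h2' (a := x) (b := y₀) (c := z) (d := w) (Ne.symm hy₀) hzw
    refine ⟨g * n₀ * g⁻¹, ?_, fun e => hn₀1 (conj_eq_one_iff.1 e), ?_⟩
    · show g * n₀ * g⁻¹ ∈ N.map (MulAut.conj (t z)).toMonoidHom
      rw [← hgx]
      refine (hmem _ _).2 (hconj g x n₀ ?_)
      have hs : (t x)⁻¹ ∈ stabilizer G x := mem_stabilizer_iff.2 (inv_smul_eq_iff.2 (ht x).symm)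
      simpa using hNn _ hs _ hn₀
    · rw [← hgy, mul_smul, mul_smul, inv_smul_smul, hfix]

/-- O'Nan's theorem for an abelian normal subgroup of a point stabiliser. -/
theorem exists_psl [Finite G] [Finite X] [FaithfulSMul G X] (h2 : IsMultiplyPretransitive G X 2) (x : X)
    (N : Subgroup G) (hNle : N ≤ stabilizer G x) (hNn : ∀ g ∈ stabilizer G x, ∀ n ∈ N, g * n * g⁻¹ ∈ N)
    (hNab : ∀ a ∈ N, ∀ b ∈ N, a * b = b * a) (hnsr : ∃ n ∈ N, n ≠ 1 ∧ ∃ y : X, y ≠ x ∧ n • y = y) :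
    ∃ (m : ℕ) (F : Type) (_ : Field F) (_ : Fintype F), 2 ≤ m ∧
      Nat.card X = (Fintype.card F ^ (m + 1) - 1) / (Fintype.card F - 1) ∧
      ∃ M : Subgroup G, M.Normal ∧
        Nonempty (M ≃* Matrix.ProjectiveSpecialLinearGroup (Fin (m + 1)) F) ∧
        Subgroup.centralizer (M : Set G) = ⊥ := by
  obtain ⟨N', h⟩ := exists_family h2 x N hNle hNn hNab hnsr
  obtain ⟨-, -, -, y, hy, -⟩ := hnsr
  haveI : Nontrivial X := ⟨⟨y, x, hy⟩⟩
  obtain ⟨H, a, hidx, hnt, hfix, hunf⟩ := h.exists_hyperplane_subgroup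
  exact CfsgLib.DesignAxial.ito_unfaithful h2 H hidx hnt hfix a hunf

end CfsgLib.CentreFamily
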